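import Mathlib
import Groth.Agent.ExtBCLib.Main
import Groth.Agent.ExtTopLib.Pre

/-!
# Exterior powers commute with base change and localisation
-/

set_option autoImplicit false
set_option linter.all false

universe u

open scoped TensorProduct

noncomputable section

namespace ExtPowLib

section BC

variable {A B M N : Type u} [CommRing A] [CommRing B] [Algebra A B]
  [AddCommGroup M] [Module A M] [AddCommGroup N] [Module A N] [Module B N] [IsScalarTower A B N]

/-- **Exterior powers commute with base change.** -/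
theorem isBaseChange_mapRestrict {f : M →ₗ[A] N} (hf : IsBaseChange B f) (p : ℕ) :
    IsBaseChange B (ExtBC.mapRestrict (B := B) f p) := by
  have hincl : ExtBC.incl hf.equiv = f := LinearMap.ext fun m => by
    show hf.equiv (1 ⊗ₜ[A] m) = f m
    rw [IsBaseChange.equiv_tmul, one_smul]
  refine IsBaseChange.of_equiv
    (LinearEquiv.ofBijective (ExtBC.chi hf.equiv p)
      ⟨ExtBC.chi_injective _ p, ExtBC.chi_surjective _ p⟩) fun x => ?_
  show ExtBC.chi hf.equiv p (1 ⊗ₜ[A] x) = _
  rw [ExtBC.chi_tmul, one_smul, hincl]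

end BC

section Semi

variable {A B M N : Type u} [CommRing A] [CommRing B] (g : A →+* B)
  [AddCommGroup M] [Module A M] [AddCommGroup N] [Module B N] (h : M →ₛₗ[g] N)

/-- The semilinear map on exterior powers, with values in the exterior power itself. -/
def sMap (p : ℕ) (z : ↥(⋀[A]^p M)) : ↥(⋀[B]^p N) := ExtTopLib.semiMap g p h z

theorem sMap_add (p : ℕ) (z w : ↥(⋀[A]^p M)) : sMap g h p (z + w) = sMap g h p z + sMap g h p w :=
  map_add (ExtTopLib.semiMap g p h) z w

theorem sMap_sub (p : ℕ) (z w : ↥(⋀[A]^p M)) : sMap g h p (z - w) = sMap g h p z - sMap g h p w :=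
  map_sub (ExtTopLib.semiMap g p h) z w

theorem sMap_zero (p : ℕ) : sMap g h p (0 : ↥(⋀[A]^p M)) = 0 :=
  map_zero (ExtTopLib.semiMap g p h)

theorem sMap_smul (p : ℕ) (a : A) (z : ↥(⋀[A]^p M)) : sMap g h p (a • z) = g a • sMap g h p z :=
  map_smul (ExtTopLib.semiMap g p h) a z

theorem sMap_ι (p : ℕ) (v : Fin p → M) :
    sMap g h p (exteriorPower.ιMulti A p v) = exteriorPower.ιMulti B p (fun i => h (v i)) :=
  ExtTopLib.semiMap_ι g p h v

/-- **Exterior powers commute with localisation at one element.** -/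
theorem loc_sMap (f : A) (hB : letI := g.toAlgebra; IsLocalization.Away f B)
    (hext : ∀ y : N, ∃ (n : ℕ) (m : M), h m = g f ^ n • y)
    (hzero : ∀ m : M, h m = 0 → ∃ n : ℕ, f ^ n • m = 0) (p : ℕ) :
    (∀ y : ↥(⋀[B]^p N), ∃ (n : ℕ) (z : ↥(⋀[A]^p M)), sMap g h p z = g f ^ n • y) ∧
    (∀ z : ↥(⋀[A]^p M), sMap g h p z = 0 → ∃ n : ℕ, f ^ n • z = 0) := by
  letI : Algebra A B := g.toAlgebra
  haveI : IsLocalization.Away f B := hB
  letI : Module A N := Module.compHom N g
  haveI : IsScalarTower A B N := IsScalarTower.of_algebraMap_smul fun _ _ => rfl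
  let h' : M →ₗ[A] N :=
    { toFun := h
      map_add' := map_add h
      map_smul' := fun a m => h.map_smulₛₗ a m }
  haveI : IsLocalizedModule (Submonoid.powers f) h' := by
    refine IsLocalizedModule.Away.mk_of_addCommGroup ?_ ?_ ?_
    · rw [Module.End.isUnit_iff]
      have hu : IsUnit (g f) := IsLocalization.Away.algebraMap_isUnit (S := B) f
      have := (Module.End.isUnit_iff _).mp (hu.map (Algebra.lsmul B B N).toRingHom)
      exact this
    · intro y
      obtain ⟨n, m, hm⟩ := hext y
      refine ⟨n, m, Eq.symm (hm.trans ?_)⟩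
      rw [← map_pow]
      rfl
    · exact fun m hm => hzero m hm
  have h1 : IsBaseChange B h' := IsLocalizedModule.isBaseChange (Submonoid.powers f) B h'
  haveI h2 : IsLocalizedModule (Submonoid.powers f) (ExtBC.mapRestrict (B := B) h' p) :=
    (isLocalizedModule_iff_isBaseChange (Submonoid.powers f) B _).mpr (isBaseChange_mapRestrict h1 p)
  have hcmp : ∀ z : ↥(⋀[A]^p M), ExtBC.mapRestrict (B := B) h' p z = sMap g h p z := fun z => by
    have hz : z ∈ Submodule.span A (Set.range (exteriorPower.ιMulti A p (M := M))) := by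
      rw [exteriorPower.ιMulti_span]; trivial
    induction hz using Submodule.span_induction with
    | mem y hy =>
      obtain ⟨v, rfl⟩ := hy
      rw [ExtBC.mapRestrict_ιMulti, sMap_ι]
      rfl
    | zero => rw [map_zero, sMap_zero]
    | add y y' _ _ hy hy' => rw [map_add, sMap_add, hy, hy']
    | smul a y _ hy =>
      rw [map_smul, sMap_smul, hy]
      exact (algebraMap_smul B a (sMap g h p y)).symm
  constructor
  · intro y
    obtain ⟨⟨z, ⟨_, n, rfl⟩⟩, hz⟩ := IsLocalizedModule.surj (Submonoid.powers f) (ExtBC.mapRestrict (B := B) h' p) y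
    refine ⟨n, z, ?_⟩
    rw [← hcmp, ← hz, ← map_pow]
    exact (algebraMap_smul B (f ^ n) y).symm
  · intro z hz
    obtain ⟨⟨_, n, rfl⟩, hn⟩ := IsLocalizedModule.exists_of_eq (S := Submonoid.powers f)
      (f := ExtBC.mapRestrict (B := B) h' p) (x₁ := z) (x₂ := 0) (by rw [hcmp, hz, map_zero])
    exact ⟨n, by simpa [Submonoid.smul_def] using hn⟩

end Semi

end ExtPowLib

end
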