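import Mathlib
import Groth.Prelude.Def_ExtPow2
import Groth.Agent.ExtPowLib.Alg
import Groth.Agent.ExtTopLib.Pre
import Groth.Agent.QCohLib.AffineFinite
import Groth.Agent.WedgeLib.Glue
import Groth.Agent.GrassLib.SchExtPow
import Groth.Agent.FinLFAnnLib.Main

/-!
# Existence of exterior powers of quasi-coherent modules
-/

set_option autoImplicit false
set_option linter.all false
set_option maxHeartbeats 1000000

universe u

open CategoryTheory CategoryTheory.Limits AlgebraicGeometry Opposite TopologicalSpace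
open ExtTopLib (ext pre unit unitHom resL unit_res)

noncomputable section

namespace ExtPowLib

variable {X : Scheme.{u}} (E : X.Modules) (n : ℕ)

/-- Restriction of exterior powers of sections. -/
def rP {U V : X.Opens} (h : V ≤ U) (z : ↥(⋀[Γ(X, U)]^n (E.val.obj (op U)))) :
    ↥(⋀[Γ(X, V)]^n (E.val.obj (op V))) :=
  sMap (X.presheaf.map (homOfLE h).op).hom (resL E (homOfLE h).op) n z

theorem rP_ι {U V : X.Opens} (h : V ≤ U) (v : Fin n → E.val.obj (op U)) :
    rP E n h (exteriorPower.ιMulti Γ(X, U) n v) =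
      exteriorPower.ιMulti Γ(X, V) n (M := E.val.obj (op V)) (fun j => E.val.map (homOfLE h).op (v j)) :=
  sMap_ι _ _ n v

theorem rP_smul {U V : X.Opens} (h : V ≤ U) (a : Γ(X, U)) (z : ↥(⋀[Γ(X, U)]^n (E.val.obj (op U)))) :
    rP E n h (a • z) = X.presheaf.map (homOfLE h).op a • rP E n h z :=
  sMap_smul _ _ n a z

theorem rP_sub {U V : X.Opens} (h : V ≤ U) (z w : ↥(⋀[Γ(X, U)]^n (E.val.obj (op U)))) :
    rP E n h (z - w) = rP E n h z - rP E n h w :=
  sMap_sub _ _ n z w

theorem rP_zero {U V : X.Opens} (h : V ≤ U) :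
    rP E n h (0 : ↥(⋀[Γ(X, U)]^n (E.val.obj (op U)))) = 0 :=
  sMap_zero _ _ n

theorem rP_add {U V : X.Opens} (h : V ≤ U) (z w : ↥(⋀[Γ(X, U)]^n (E.val.obj (op U)))) :
    rP E n h (z + w) = rP E n h z + rP E n h w :=
  sMap_add _ _ n z w

theorem rP_rP {U V W : X.Opens} (h : V ≤ U) (h' : W ≤ V) (z : ↥(⋀[Γ(X, U)]^n (E.val.obj (op U)))) :
    rP E n h' (rP E n h z) = rP E n (h'.trans h) z := by
  have hz : z ∈ Submodule.span Γ(X, U) (Set.range (exteriorPower.ιMulti Γ(X, U) n (M := E.val.obj (op U)))) := by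
    rw [exteriorPower.ιMulti_span]; trivial
  induction hz using Submodule.span_induction with
  | mem y hy =>
    obtain ⟨v, rfl⟩ := hy
    rw [rP_ι, rP_ι, rP_ι]
    exact congrArg _ (funext fun j => QCohLib.map_map' E (homOfLE h') (homOfLE h) (v j))
  | zero => simp only [rP_zero]
  | add y y' _ _ hy hy' => simp only [rP_add, hy, hy']
  | smul a y _ hy =>
    rw [rP_smul, rP_smul, rP_smul, hy]
    exact congrArg (fun c => c • rP E n (h'.trans h) y)
      ((ConcreteCategory.comp_apply _ _ a).symm.trans (congrArg (fun φ => φ a) ((X.presheaf.map_comp _ _).symm.trans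
        (congrArg X.presheaf.map (Subsingleton.elim _ (homOfLE (h'.trans h)).op)))))

/-- The canonical map, with values in the sections. -/
def uS (U : X.Opens) : ↥(⋀[Γ(X, U)]^n (E.val.obj (op U))) →ₗ[Γ(X, U)] Γ(ext E n, U) where
  toFun z := unit E n U z
  map_add' z w := map_add (unit E n U) z w
  map_smul' c z := map_smul (unit E n U) c z

theorem res_unit {U V : X.Opens} (h : V ≤ U) (z : ↥(⋀[Γ(X, U)]^n (E.val.obj (op U)))) :
    (ext E n).presheaf.map (homOfLE h).op (uS E n U z) = uS E n V (rP E n h z) :=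
  (PresheafOfModules.naturality_apply (unitHom E n) (homOfLE h).op z).symm

/-- Exterior powers of sections localise. -/
theorem pre_loc [Coh.IsQCoh E] {U : X.Opens} (hU : IsAffineOpen U) (f : Γ(X, U)) :
    (∀ y : ↥(⋀[Γ(X, X.basicOpen f)]^n (E.val.obj (op (X.basicOpen f)))), ∃ (k : ℕ) (z : ↥(⋀[Γ(X, U)]^n (E.val.obj (op U)))),
      rP E n (X.basicOpen_le f) z = X.presheaf.map (homOfLE (X.basicOpen_le f)).op f ^ k • y) ∧
    (∀ z : ↥(⋀[Γ(X, U)]^n (E.val.obj (op U))), rP E n (X.basicOpen_le f) z = 0 → ∃ k : ℕ, f ^ k • z = 0) := by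
  have hloc := QCohLib.localizingAt_of_isQCoh hU E f
  refine loc_sMap (X.presheaf.map (homOfLE (X.basicOpen_le f)).op).hom (resL E (homOfLE (X.basicOpen_le f)).op) f
    (hU.isLocalization_basicOpen f) (fun y => hloc.exists_extend y) (fun m hm => ?_) n
  obtain ⟨k, hk⟩ := hloc.eq_zero m hm
  simp only [homOfLE_refl, op_id, CategoryTheory.Functor.map_id] at hk
  exact ⟨k, hk⟩

theorem not_mem_prime {U : X.Opens} (hU : IsAffineOpen U) {x : X} (hx : x ∈ U) {g : Γ(X, U)}
    (hg : x ∈ X.basicOpen g) : g ∉ (hU.primeIdealOf ⟨x, hx⟩).asIdeal := by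
  letI := X.presheaf.algebra_section_stalk (⟨x, hx⟩ : U)
  haveI : IsLocalization.AtPrime (X.presheaf.stalk x) (hU.primeIdealOf ⟨x, hx⟩).asIdeal :=
    hU.isLocalization_stalk ⟨x, hx⟩
  exact (IsLocalization.AtPrime.isUnit_to_map_iff (X.presheaf.stalk x)
    (hU.primeIdealOf ⟨x, hx⟩).asIdeal g).1 ((X.mem_basicOpen g x hx).1 hg)

/-- An ideal containing, near every point, a power of a function non-vanishing there is the unit ideal. -/
theorem ideal_top {U : X.Opens} (hU : IsAffineOpen U) (I : Ideal Γ(X, U))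
    (h : ∀ x ∈ U, ∃ (g : Γ(X, U)) (k : ℕ), x ∈ X.basicOpen g ∧ g ^ k ∈ I) : I = ⊤ := by
  by_contra hI
  obtain ⟨m, hm, hIm⟩ := I.exists_le_maximal hI
  let q : PrimeSpectrum Γ(X, U) := ⟨m, hm.isPrime⟩
  have hy : hU.fromSpec q ∈ U := by
    have : hU.fromSpec q ∈ Set.range hU.fromSpec := ⟨q, rfl⟩
    rwa [hU.range_fromSpec] at this
  have hq : hU.primeIdealOf ⟨hU.fromSpec q, hy⟩ = q :=
    hU.fromSpec.isOpenEmbedding.injective (hU.fromSpec_primeIdealOf ⟨_, hy⟩)
  obtain ⟨g, k, hg, hk⟩ := h _ hy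
  refine not_mem_prime hU hy hg ?_
  rw [hq]
  exact hm.isPrime.mem_of_pow_mem k (hIm hk)

/-- **The canonical map is injective on affine opens.** -/
theorem unit_injective [Coh.IsQCoh E] {U : X.Opens} (hU : IsAffineOpen U) :
    Function.Injective (uS E n U) := by
  rw [injective_iff_map_eq_zero]
  intro z hz
  let I : Ideal Γ(X, U) := LinearMap.ker (LinearMap.toSpanSingleton Γ(X, U) _ z)
  have hI : I = ⊤ := ideal_top hU I fun x hx => by
    obtain ⟨W, hxW, hWU, hW⟩ := ExtTopLib.exists_res_eq_zero E n hx z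
      ((congrArg ((ext E n).presheaf.germ U x hx) hz).trans (map_zero _))
    obtain ⟨g, hgW, hxg⟩ := QCohLib.exists_basicOpen_nhd hU hxW hx
    have h1 : rP E n (X.basicOpen_le g) z = 0 := by
      rw [← rP_rP E n hWU hgW]
      exact (congrArg (rP E n hgW) hW).trans (rP_zero E n hgW)
    obtain ⟨k, hk⟩ := (pre_loc E n hU g).2 z h1
    exact ⟨g, k, hxg, hk⟩
  have h1 : (1 : Γ(X, U)) ∈ I := hI ▸ trivial
  simpa [I] using h1

theorem unit_smul (U : X.Opens) (a : Γ(X, U)) (z : ↥(⋀[Γ(X, U)]^n (E.val.obj (op U)))) :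
    uS E n U (a • z) = a • uS E n U z := map_smul _ _ _

/-- Every section is, near each point, in the image of the canonical map. -/
theorem exists_local_lift {U : X.Opens} (hU : IsAffineOpen U) (t : Γ(ext E n, U)) {x : X} (hx : x ∈ U) :
    ∃ g : Γ(X, U), x ∈ X.basicOpen g ∧ ∃ z, uS E n (X.basicOpen g) z =
      (ext E n).presheaf.map (homOfLE (X.basicOpen_le g)).op t := by
  obtain ⟨V, hxV, z, hz⟩ := ExtTopLib.exists_local E n ((ext E n).presheaf.germ U x hx t)
  obtain ⟨W, hxW, i, j, hW⟩ := (ext E n).presheaf.germ_eq x hxV hx _ _ hz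
  obtain ⟨g, hgW, hxg⟩ := QCohLib.exists_basicOpen_nhd hU hxW hx
  refine ⟨g, hxg, rP E n (hgW.trans i.le) z, ?_⟩
  rw [← res_unit E n (hgW.trans i.le)]
  have h := congrArg ((ext E n).presheaf.map (homOfLE hgW).op) hW
  exact ((QCohLib.map_map' (ext E n) (homOfLE hgW) i _).symm.trans h).trans
    (QCohLib.map_map' (ext E n) (homOfLE hgW) j t)

/-- **The canonical map is surjective on affine opens.** -/
theorem unit_surjective [Coh.IsQCoh E] {U : X.Opens} (hU : IsAffineOpen U) :
    Function.Surjective (uS E n U) := by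
  classical
  intro (t : Γ(ext E n, U))
  choose g hxg z hz using fun p : U => exists_local_lift E n hU t p.2
  obtain ⟨s, hs⟩ := hU.isCompact.elim_finite_subcover (fun p : U => (X.basicOpen (g p) : Set X))
    (fun p => (X.basicOpen _).isOpen) fun q hq => Set.mem_iUnion.mpr ⟨⟨q, hq⟩, hxg ⟨q, hq⟩⟩
  let R' : Submodule Γ(X, U) Γ(ext E n, U) := LinearMap.range (uS E n U)
  let I : Ideal Γ(X, U) := R'.comap (LinearMap.toSpanSingleton Γ(X, U) _ t)
  have hI : I = ⊤ := ideal_top hU I fun x hx => by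
    let p : U := ⟨x, hx⟩
    obtain ⟨k, w, hw⟩ := (pre_loc E n hU (g p)).1 (z p)
    let d : Γ(ext E n, U) := uS E n U w - g p ^ k • t
    have hd : (ext E n).presheaf.map (homOfLE (X.basicOpen_le (g p))).op d = 0 := by
      show (ext E n).presheaf.map (homOfLE (X.basicOpen_le (g p))).op (uS E n U w - g p ^ k • t) = 0
      rw [map_sub, sub_eq_zero, res_unit, hw, QCohLib.map_smul', map_pow, unit_smul, hz]
    have hj : ∀ q : U, ∃ l : ℕ, ∀ l', l ≤ l' →
        (ext E n).presheaf.map (homOfLE (X.basicOpen_le (g q))).op (g p ^ l' • d) = 0 := by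
      intro q
      have hAq : IsAffineOpen (X.basicOpen (g q)) := hU.basicOpen _
      let gp : Γ(X, X.basicOpen (g q)) := X.presheaf.map (homOfLE (X.basicOpen_le (g q))).op (g p)
      let e := rP E n (X.basicOpen_le (g q)) w - gp ^ k • z q
      have he : uS E n (X.basicOpen (g q)) e = (ext E n).presheaf.map (homOfLE (X.basicOpen_le (g q))).op d := by
        show uS E n (X.basicOpen (g q)) (rP E n (X.basicOpen_le (g q)) w - gp ^ k • z q) =
          (ext E n).presheaf.map (homOfLE (X.basicOpen_le (g q))).op (uS E n U w - g p ^ k • t)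
        rw [map_sub, map_sub, res_unit, unit_smul, hz, QCohLib.map_smul', map_pow]
      have hle : X.basicOpen gp ≤ X.basicOpen (g p) := by
        show X.basicOpen (X.presheaf.map _ (g p)) ≤ _
        rw [Scheme.basicOpen_res]
        exact inf_le_right
      have h0 : rP E n (X.basicOpen_le gp) e = 0 := by
        refine unit_injective E n (hAq.basicOpen gp) ?_
        rw [map_zero, ← res_unit, he]
        refine (QCohLib.map_map' (ext E n) (homOfLE (X.basicOpen_le gp)) (homOfLE (X.basicOpen_le (g q))) d).trans ?_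
        refine (QCohLib.map_map' (ext E n) (homOfLE hle) (homOfLE (X.basicOpen_le (g p))) d).symm.trans ?_
        rw [hd, map_zero]
      obtain ⟨l, hl⟩ := (pre_loc E n hAq gp).2 e h0
      refine ⟨l, fun l' hll => ?_⟩
      rw [QCohLib.map_smul', map_pow]
      show gp ^ l' • _ = _
      rw [← he, ← unit_smul, ← Nat.sub_add_cancel hll, pow_add, mul_smul, hl, smul_zero, map_zero]
    choose l hl using hj
    let L := s.sup l
    have hL : g p ^ L • d = 0 := by
      refine TopCat.Sheaf.eq_of_locally_eq' (⟨(ext E n).presheaf, (ext E n).isSheaf⟩ : TopCat.Sheaf AddCommGrpCat _)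
        (fun q : {q // q ∈ s} => X.basicOpen (g q.1)) U (fun q => homOfLE (X.basicOpen_le (g q.1))) ?_ _ _ fun q => ?_
      · intro y hy
        obtain ⟨q, hq, hyq⟩ := Set.mem_iUnion₂.mp (hs hy)
        exact Opens.mem_iSup.2 ⟨⟨q, hq⟩, hyq⟩
      · exact (hl q.1 L (Finset.le_sup q.2)).trans (map_zero ((ext E n).presheaf.map _).hom).symm
    refine ⟨g p, L + k, hxg p, ?_⟩
    show g p ^ (L + k) • t ∈ R'
    refine ⟨g p ^ L • w, ?_⟩
    rw [unit_smul, pow_add, mul_smul]
    rw [smul_sub, sub_eq_zero] at hL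
    exact hL
  have h1 : (1 : Γ(X, U)) ∈ I := hI ▸ trivial
  simpa [I, R'] using h1

theorem unit_bijective [Coh.IsQCoh E] {U : X.Opens} (hU : IsAffineOpen U) :
    Function.Bijective (uS E n U) :=
  ⟨unit_injective E n hU, unit_surjective E n hU⟩

/-- The sheaf of exterior powers of a quasi-coherent module is quasi-coherent. -/
theorem isQCoh_ext [Coh.IsQCoh E] : Coh.IsQCoh (ext E n) := by
  refine (QCohLib.isQCoh_iff_localizingAt _).2 fun U hU f => ⟨fun s => ?_, fun t ht => ?_⟩
  · obtain ⟨z, rfl⟩ := unit_surjective E n (hU.basicOpen f) s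
    obtain ⟨k, w, hw⟩ := (pre_loc E n hU f).1 z
    exact ⟨k, uS E n U w, by rw [res_unit, hw, unit_smul]⟩
  · obtain ⟨z, rfl⟩ := unit_surjective E n hU t
    have h0 : rP E n (X.basicOpen_le f) z = 0 := unit_injective E n (hU.basicOpen f) (by
      rw [← res_unit, map_zero]; exact ht)
    obtain ⟨k, hk⟩ := (pre_loc E n hU f).2 z h0
    refine ⟨k, ?_⟩
    simp only [homOfLE_refl, op_id, CategoryTheory.Functor.map_id]
    show f ^ k • uS E n U z = 0
    rw [← unit_smul, hk, map_zero]

theorem isExtPow_ext [Coh.IsQCoh E] : ExtPow.IsExtPow n E (ext E n) := by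
  refine ⟨fun U => (LinearEquiv.ofBijective (unit E n U.1) (unit_bijective E n U.2)).symm, fun U V h e => ?_⟩
  rw [LinearEquiv.symm_symm, LinearEquiv.symm_symm]
  exact unit_res E n h e

/-- **Quasi-coherent modules have exterior powers.** -/
theorem exists_isExtPow [Coh.IsQCoh E] : ∃ L : X.Modules, Coh.IsQCoh L ∧ ExtPow.IsExtPow n E L :=
  ⟨ext E n, isQCoh_ext E n, isExtPow_ext E n⟩

variable {E n}

/-- **Exterior powers are unique up to isomorphism.** -/
theorem nonempty_iso {L L' : X.Modules} (hL : ExtPow.IsExtPow n E L) (hL' : ExtPow.IsExtPow n E L') :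
    Nonempty (L ≅ L') := by
  obtain ⟨φ, hφ⟩ := hL
  obtain ⟨ψ, hψ⟩ := hL'
  let f : ∀ U : X.affineOpens, Γ(L, U.1) →ₗ[Γ(X, U.1)] Γ(L', U.1) := fun U =>
    (ψ U).symm.toLinearMap.comp (φ U).toLinearMap
  have hf : ∀ (U V : X.affineOpens) (h : V.1 ≤ U.1) (t : Γ(L, U.1)),
      AmpleLib.res L' h (f U t) = f V (AmpleLib.res L h t) := by
    intro U V h t
    obtain ⟨z, rfl⟩ := (φ U).symm.surjective t
    have hz : z ∈ Submodule.span Γ(X, U.1) (Set.range (exteriorPower.ιMulti Γ(X, U.1) n (M := E.val.obj (op U.1)))) := by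
      rw [exteriorPower.ιMulti_span]; trivial
    let c : ↥(⋀[Γ(X, U.1)]^n (E.val.obj (op U.1))) → Γ(L, U.1) := (φ U).symm
    have hres0 : AmpleLib.res L' h (f U (c 0)) = 0 := by
      rw [show c 0 = 0 from map_zero (φ U).symm.toLinearMap, LinearMap.map_zero]
      exact map_zero (L'.presheaf.map (homOfLE h).op).hom
    have hres0' : f V (AmpleLib.res L h (c 0)) = 0 := by
      rw [show c 0 = 0 from map_zero (φ U).symm.toLinearMap,
        show AmpleLib.res L h 0 = 0 from map_zero (L.presheaf.map (homOfLE h).op).hom, LinearMap.map_zero]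
    have addc : ∀ y y', AmpleLib.res L' h (f U (c y)) = f V (AmpleLib.res L h (c y)) →
        AmpleLib.res L' h (f U (c y')) = f V (AmpleLib.res L h (c y')) →
        AmpleLib.res L' h (f U (c (y + y'))) = f V (AmpleLib.res L h (c (y + y'))) := fun y y' hy hy' => by
      rw [show c (y + y') = c y + c y' from map_add (φ U).symm.toLinearMap y y', LinearMap.map_add,
        show AmpleLib.res L h (c y + c y') = _ from map_add (L.presheaf.map (homOfLE h).op).hom (c y) (c y'),
        LinearMap.map_add]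
      exact (map_add (L'.presheaf.map (homOfLE h).op).hom _ _).trans (congr_arg₂ (· + ·) hy hy')
    have smulc : ∀ (a : Γ(X, U.1)) y, AmpleLib.res L' h (f U (c y)) = f V (AmpleLib.res L h (c y)) →
        AmpleLib.res L' h (f U (c (a • y))) = f V (AmpleLib.res L h (c (a • y))) := fun a y hy => by
      rw [show c (a • y) = a • c y from map_smul (φ U).symm.toLinearMap a y, LinearMap.map_smul,
        AmpleLib.res_smul, AmpleLib.res_smul, LinearMap.map_smul, hy]
    induction hz using Submodule.span_induction with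
    | mem y hy =>
      obtain ⟨v, rfl⟩ := hy
      show L'.val.map (homOfLE h).op ((ψ U).symm (φ U ((φ U).symm _))) =
        (ψ V).symm (φ V (L.val.map (homOfLE h).op ((φ U).symm _)))
      rw [LinearEquiv.apply_symm_apply, hφ, LinearEquiv.apply_symm_apply]
      exact hψ U V h v
    | zero => exact hres0.trans hres0'.symm
    | add y y' _ _ hy hy' => exact addc y y' hy hy'
    | smul a y _ hy => exact smulc a y hy
  obtain ⟨Φ, hΦ⟩ := WedgeLib.exists_hom_affine f hf
  haveI : IsIso Φ := QCohLib.isIso_of_bijective_affine Φ fun U hU => by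
    rw [show ⇑(Φ.app U) = ⇑(f ⟨U, hU⟩) from funext fun t => hΦ ⟨U, hU⟩ t]
    exact (ψ ⟨U, hU⟩).symm.bijective.comp (φ ⟨U, hU⟩).bijective
  exact ⟨asIso Φ⟩

/-- Exterior powers of a finite locally free module are finite locally free. -/
theorem isFinLocFree {L : X.Modules} (hE : FlatMod.IsFinLocFree E) (hL : ExtPow.IsExtPow n E L) :
    FlatMod.IsFinLocFree L := by
  classical
  obtain ⟨φ, hφ⟩ := hL
  refine CohCmpLib.isFinLocFree_of_frames fun x => ?_
  obtain ⟨O, m, b, hO, hb⟩ := ProjFormLib.exists_frame hE x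
  obtain ⟨U, hUa, hxU, hle⟩ := exists_isAffineOpen_mem_and_subset (X := X) (x := x) (U := O) hO
  let B : ∀ (W : X.Opens) (hW : W ≤ O), Module.Basis (Fin m) Γ(X, W) (E.val.obj (op W)) := fun W hW =>
    Module.Basis.ofEquivFun (LinearEquiv.ofBijective (Fintype.linearCombination Γ(X, W) (M := E.val.obj (op W))
      fun i => AmpleLib.res E hW (b i)) (GrassSch.bijective_comb_open hb hW)).symm
  have hB : ∀ W hW i, B W hW i = AmpleLib.res E hW (b i) := fun W hW i => by
    simp only [B, Module.Basis.coe_ofEquivFun, LinearEquiv.symm_symm]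
    exact (Fintype.linearCombination_apply_single _ _ _ _).trans (one_smul _ _)
  let w : Fin (m.choose n) → Γ(L, U) := fun j =>
    (φ ⟨U, hUa⟩).symm (exteriorPower.ιMulti_family Γ(X, U) n (B U hle) (GrassSch.chooseEquiv m n j))
  refine ⟨U, m.choose n, w, hxU, GrassSch.isFrame_of_bijective fun W hW => ?_⟩
  let C : Module.Basis (Fin (m.choose n)) Γ(X, W.1) (L.val.obj (op W.1)) :=
    (((B W.1 (hW.trans hle)).exteriorPower n).map (φ W).symm).reindex (GrassSch.chooseEquiv m n).symm
  have hw : ∀ j, AmpleLib.res L hW (w j) = C j := fun j => by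
    show L.val.map (homOfLE hW).op ((φ ⟨U, hUa⟩).symm _) = _
    rw [exteriorPower.ιMulti_family, hφ ⟨U, hUa⟩ W hW, Module.Basis.reindex_apply, Equiv.symm_symm,
      Module.Basis.map_apply, exteriorPower.basis_apply, exteriorPower.ιMulti_family]
    refine congrArg (fun v => (φ W).symm (exteriorPower.ιMulti _ n v)) (funext fun i => ?_)
    simp only [Function.comp_apply]
    refine (congrArg (E.val.map (homOfLE hW).op) (hB U hle _)).trans (Eq.trans ?_ (hB W.1 (hW.trans hle) _).symm)
    exact QCohLib.map_map' E (homOfLE hW) (homOfLE hle) _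
  rw [show (fun i => AmpleLib.res L hW (w i)) = fun i => C i from funext hw]
  have hC : ⇑(Fintype.linearCombination Γ(X, W.1) (M := L.val.obj (op W.1)) fun i => C i) = C.equivFun.symm :=
    funext fun c => by rw [Fintype.linearCombination_apply, Module.Basis.equivFun_symm_apply]
  exact Eq.mpr (congrArg Function.Bijective hC) C.equivFun.symm.bijective

/-- **Finite locally free modules have finite locally free exterior powers.** -/
theorem exists_isExtPow_vb (hE : FlatMod.IsFinLocFree E) (n : ℕ) :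
    ∃ L : X.Modules, FlatMod.IsFinLocFree L ∧ ExtPow.IsExtPow n E L := by
  haveI : Coh.IsQCoh E := FinLFAnn.isQCoh_of_isFinLocFree hE
  exact ⟨ext E n, isFinLocFree hE (isExtPow_ext E n), isExtPow_ext E n⟩

end ExtPowLib

end
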