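import Mathlib
import Groth.Agent.ExtPowLib.Sheaf
import Groth.Agent.KFlatLib.AffinePull
import Groth.Agent.GrTildeLib.IsoCrit

/-!
# Exterior powers commute with pullback
-/

set_option autoImplicit false
set_option linter.all false
set_option maxHeartbeats 1600000

universe u

open CategoryTheory CategoryTheory.Limits AlgebraicGeometry Opposite TopologicalSpace
open ExtTopLib (ext resL)
open KFlatLib (pb puSec puSecLE)
open scoped TensorProduct

noncomputable section

namespace ExtPowLib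

variable {X Y : Scheme.{u}}

theorem puSecLE_res' (g : X ⟶ Y) (M : Y.Modules) {U U' : Y.Opens} (hU : U' ≤ U) {V : X.Opens} (h : V ≤ g ⁻¹ᵁ U')
    (m : Γ(M, U)) : puSecLE g M h (M.presheaf.map (homOfLE hU).op m) = puSecLE g M (h.trans (g.preimage_mono hU)) m := by
  rw [KFlatLib.puSecLE_apply, KFlatLib.puSecLE_apply]
  refine (congrArg ((pb g M).presheaf.map (homOfLE h).op)
    (QCohLib.app_map ((Scheme.Modules.pullbackPushforwardAdjunction g).unit.app M) (homOfLE hU) m)).trans ?_
  exact QCohLib.map_map' (pb g M) (homOfLE h) (homOfLE (g.preimage_mono hU)) (puSec g m)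

theorem res_puSecLE' (g : X ⟶ Y) (M : Y.Modules) {U : Y.Opens} {V V' : X.Opens} (h : V ≤ g ⁻¹ᵁ U) (hV : V' ≤ V)
    (m : Γ(M, U)) : (pb g M).presheaf.map (homOfLE hV).op (puSecLE g M h m) = puSecLE g M (hV.trans h) m := by
  rw [KFlatLib.puSecLE_apply, KFlatLib.puSecLE_apply]
  exact QCohLib.map_map' (pb g M) (homOfLE hV) (homOfLE h) (puSec g m)

variable (g : X ⟶ Y) (E : Y.Modules) (n : ℕ)

/-- Pullback of sections, semilinearly. -/
def puL {U : Y.Opens} {V : X.Opens} (h : V ≤ g ⁻¹ᵁ U) :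
    E.val.obj (op U) →ₛₗ[(g.appLE U V h).hom] (pb g E).val.obj (op V) where
  toFun m := puSecLE g E h m
  map_add' a b := map_add (puSecLE g E h) a b
  map_smul' r m := KFlatLib.puSecLE_smul g E h r m

/-- Pullback of exterior powers of sections. -/
def wp {U : Y.Opens} {V : X.Opens} (h : V ≤ g ⁻¹ᵁ U) (z : ↥(⋀[Γ(Y, U)]^n (E.val.obj (op U)))) :
    ↥(⋀[Γ(X, V)]^n ((pb g E).val.obj (op V))) :=
  sMap (g.appLE U V h).hom (puL g E h) n z

theorem wp_ι {U : Y.Opens} {V : X.Opens} (h : V ≤ g ⁻¹ᵁ U) (v : Fin n → E.val.obj (op U)) :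
    wp g E n h (exteriorPower.ιMulti Γ(Y, U) n v) =
      exteriorPower.ιMulti Γ(X, V) n (M := (pb g E).val.obj (op V)) (fun j => puL g E h (v j)) :=
  sMap_ι _ _ n v

theorem rP_wp {U : Y.Opens} {V V' : X.Opens} (h : V ≤ g ⁻¹ᵁ U) (hV : V' ≤ V)
    (z : ↥(⋀[Γ(Y, U)]^n (E.val.obj (op U)))) :
    rP (pb g E) n hV (wp g E n h z) = wp g E n (hV.trans h) z := by
  have hz : z ∈ Submodule.span Γ(Y, U) (Set.range (exteriorPower.ιMulti Γ(Y, U) n (M := E.val.obj (op U)))) := by
    rw [exteriorPower.ιMulti_span]; trivial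
  induction hz using Submodule.span_induction with
  | mem y hy =>
    obtain ⟨v, rfl⟩ := hy
    rw [wp_ι, rP_ι, wp_ι]
    exact congrArg _ (funext fun j => res_puSecLE' g E h hV (v j))
  | zero => rw [wp, sMap_zero, rP_zero, wp, sMap_zero]
  | add y y' _ _ hy hy' =>
    simp only [wp, sMap_add, rP_add] at hy hy' ⊢
    rw [hy, hy']
  | smul a y _ hy =>
    simp only [wp, sMap_smul, rP_smul] at hy ⊢
    rw [hy]
    exact congrArg (fun c => c • sMap (g.appLE U V' (hV.trans h)).hom (puL g E (hV.trans h)) n y)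
      ((ConcreteCategory.comp_apply _ _ a).symm.trans
        (congrArg (fun φ => φ a) (g.appLE_map h (homOfLE hV).op)))

theorem wp_rP {U U' : Y.Opens} (hU : U' ≤ U) {V : X.Opens} (h : V ≤ g ⁻¹ᵁ U')
    (z : ↥(⋀[Γ(Y, U)]^n (E.val.obj (op U)))) :
    wp g E n h (rP E n hU z) = wp g E n (h.trans (g.preimage_mono hU)) z := by
  have hz : z ∈ Submodule.span Γ(Y, U) (Set.range (exteriorPower.ιMulti Γ(Y, U) n (M := E.val.obj (op U)))) := by
    rw [exteriorPower.ιMulti_span]; trivial
  induction hz using Submodule.span_induction with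
  | mem y hy =>
    obtain ⟨v, rfl⟩ := hy
    rw [rP_ι, wp_ι, wp_ι]
    exact congrArg _ (funext fun j => puSecLE_res' g E hU h (v j))
  | zero => rw [rP_zero, wp, sMap_zero, wp, sMap_zero]
  | add y y' _ _ hy hy' =>
    simp only [wp, rP_add, sMap_add] at hy hy' ⊢
    rw [hy, hy']
  | smul a y _ hy =>
    simp only [wp, rP_smul, sMap_smul] at hy ⊢
    rw [hy]
    exact congrArg (fun c => c • sMap (g.appLE U V (h.trans (g.preimage_mono hU))).hom
      (puL g E (h.trans (g.preimage_mono hU))) n y)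
      ((ConcreteCategory.comp_apply _ _ a).symm.trans
        (congrArg (fun φ => φ a) (g.map_appLE h (homOfLE hU).op)))

variable {g E n}

/-- Exterior powers transport along isomorphisms of the power. -/
theorem isExtPow_of_iso {L L' : Y.Modules} (e : L ≅ L') (h : ExtPow.IsExtPow n E L) :
    ExtPow.IsExtPow n E L' := by
  obtain ⟨φ, hφ⟩ := h
  let ι : ∀ U : Y.Opens, (L'.val.obj (op U)) ≃ₗ[Γ(Y, U)] (L.val.obj (op U)) := fun U =>
    { toFun := fun s => e.inv.app U s
      invFun := fun s => e.hom.app U s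
      map_add' := fun a b => map_add (e.inv.app U).hom a b
      map_smul' := fun r s => e.inv.app_smul r s
      left_inv := fun s => congr($(congrArg (fun φ => Scheme.Modules.Hom.app φ U) e.inv_hom_id) s)
      right_inv := fun s => congr($(congrArg (fun φ => Scheme.Modules.Hom.app φ U) e.hom_inv_id) s) }
  refine ⟨fun U => (ι U.1).trans (φ U), fun U V h v => ?_⟩
  show L'.presheaf.map (homOfLE h).op (e.hom.app U.1 ((φ U).symm (exteriorPower.ιMulti Γ(Y, U.1) n v))) =
    e.hom.app V.1 ((φ V).symm _)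
  exact (QCohLib.app_map e.hom (homOfLE h) _).symm.trans (congrArg (e.hom.app V.1) (hφ U V h v))

/-- Exterior powers transport along isomorphisms of the module. -/
theorem isExtPow_of_iso_left {E' L : Y.Modules} (e : E ≅ E') (h : ExtPow.IsExtPow n E L) :
    ExtPow.IsExtPow n E' L := by
  obtain ⟨φ, hφ⟩ := h
  let ι : ∀ U : Y.Opens, (E.val.obj (op U)) ≃ₗ[Γ(Y, U)] (E'.val.obj (op U)) := fun U =>
    { toFun := fun s => e.hom.app U s
      invFun := fun s => e.inv.app U s
      map_add' := fun a b => map_add (e.hom.app U).hom a b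
      map_smul' := fun r s => e.hom.app_smul r s
      left_inv := fun s => congr($(congrArg (fun φ => Scheme.Modules.Hom.app φ U) e.hom_inv_id) s)
      right_inv := fun s => congr($(congrArg (fun φ => Scheme.Modules.Hom.app φ U) e.inv_hom_id) s) }
  let w : ∀ U : Y.Opens, ↥(⋀[Γ(Y, U)]^n (E.val.obj (op U))) ≃ₗ[Γ(Y, U)] ↥(⋀[Γ(Y, U)]^n (E'.val.obj (op U))) :=
    fun U => LinearEquiv.ofLinear (exteriorPower.map n (ι U).toLinearMap) (exteriorPower.map n (ι U).symm.toLinearMap)
      (by rw [← exteriorPower.map_comp]; simp) (by rw [← exteriorPower.map_comp]; simp)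
  refine ⟨fun U => (φ U).trans (w U.1), fun U V h v => ?_⟩
  show L.val.map (homOfLE h).op ((φ U).symm (exteriorPower.map n (ι U.1).symm.toLinearMap
      (exteriorPower.ιMulti Γ(Y, U.1) n v))) =
    (φ V).symm (exteriorPower.map n (ι V.1).symm.toLinearMap (exteriorPower.ιMulti Γ(Y, V.1) n _))
  rw [exteriorPower.map_apply_ιMulti, exteriorPower.map_apply_ιMulti, hφ U V h]
  exact congrArg (fun w => (φ V).symm (exteriorPower.ιMulti Γ(Y, V.1) n w))
    (funext fun j => (QCohLib.app_map e.inv (homOfLE h) (v j)).symm)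

variable (g) in
/-- **Exterior powers commute with pullback.** -/
theorem isExtPow_pullback [Coh.IsQCoh E] {L : Y.Modules} (hL : ExtPow.IsExtPow n E L) :
    ExtPow.IsExtPow n (pb g E) (pb g L) := by
  classical
  haveI : Coh.IsQCoh (pb g E) := KFlatLib.isQCoh_pullback g E
  haveI : Coh.IsQCoh L := by
    obtain ⟨e⟩ := nonempty_iso hL (isExtPow_ext E n)
    exact (SheafOfModules.isQuasicoherent Y.ringCatSheaf).prop_of_iso e.symm (isQCoh_ext E n)
  obtain ⟨φ, hφ⟩ := hL
  let M := ext (pb g E) n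
  let f : ∀ U : Y.affineOpens, Γ(L, U.1) →ₗ[Γ(Y, U.1)] Γ((Scheme.Modules.pushforward g).obj M, U.1) := fun U =>
    { toFun := fun t => uS (pb g E) n (g ⁻¹ᵁ U.1) (wp g E n (le_refl _) (φ U t))
      map_add' := fun a b => by
        show uS (pb g E) n (g ⁻¹ᵁ U.1) (wp g E n (le_refl _) (φ U (a + b))) = _
        rw [show φ U (a + b) = φ U a + φ U b from map_add (φ U).toLinearMap a b, wp, sMap_add, map_add]
        rfl
      map_smul' := fun r a => by
        show uS (pb g E) n (g ⁻¹ᵁ U.1) (wp g E n (le_refl _) (φ U (r • a))) = _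
        rw [show φ U (r • a) = r • φ U a from map_smul (φ U).toLinearMap r a, wp, sMap_smul, map_smul]
        exact congrArg (fun c => c • uS (pb g E) n (g ⁻¹ᵁ U.1) (sMap _ (puL g E (le_refl _)) n (φ U a)))
          (congrArg (fun χ : Γ(Y, U.1) ⟶ Γ(X, g ⁻¹ᵁ U.1) => χ r) (Scheme.Hom.app_eq_appLE g).symm) }
  have hφ' : ∀ (U V : Y.affineOpens) (h : V.1 ≤ U.1) (t : Γ(L, U.1)),
      φ V (AmpleLib.res L h t) = rP E n h (φ U t) := by
    intro U V h t
    obtain ⟨z, rfl⟩ := (φ U).symm.surjective t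
    rw [LinearEquiv.apply_symm_apply]
    have hz : z ∈ Submodule.span Γ(Y, U.1) (Set.range (exteriorPower.ιMulti Γ(Y, U.1) n (M := E.val.obj (op U.1)))) := by
      rw [exteriorPower.ιMulti_span]; trivial
    induction hz using Submodule.span_induction with
    | mem y hy =>
      obtain ⟨v, rfl⟩ := hy
      refine (congrArg (φ V) (hφ U V h v)).trans ?_
      rw [LinearEquiv.apply_symm_apply, rP_ι]
    | zero =>
      rw [rP_zero, show (φ U).symm 0 = (0 : Γ(L, U.1)) from map_zero (φ U).symm.toLinearMap]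
      exact (congrArg (φ V) (map_zero (L.presheaf.map (homOfLE h).op).hom)).trans (map_zero (φ V).toLinearMap)
    | add y y' _ _ hy hy' =>
      rw [rP_add, ← hy, ← hy', show (φ U).symm (y + y') = ((φ U).symm y + (φ U).symm y' : Γ(L, U.1)) from
        map_add (φ U).symm.toLinearMap y y']
      exact (congrArg (φ V) (map_add (L.presheaf.map (homOfLE h).op).hom _ _)).trans
        (map_add (φ V).toLinearMap _ _)
    | smul a y _ hy =>
      rw [rP_smul, ← hy, show (φ U).symm (a • y) = (a • (φ U).symm y : Γ(L, U.1)) from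
        map_smul (φ U).symm.toLinearMap a y]
      exact (congrArg (φ V) (AmpleLib.res_smul _ _ _ _)).trans (map_smul (φ V).toLinearMap _ _)
  have hf : ∀ (U V : Y.affineOpens) (h : V.1 ≤ U.1) (t : Γ(L, U.1)),
      AmpleLib.res ((Scheme.Modules.pushforward g).obj M) h (f U t) = f V (AmpleLib.res L h t) := by
    intro U V h t
    show M.presheaf.map (homOfLE (g.preimage_mono h)).op (uS (pb g E) n (g ⁻¹ᵁ U.1) _) =
      uS (pb g E) n (g ⁻¹ᵁ V.1) (wp g E n (le_refl _) (φ V (AmpleLib.res L h t)))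
    rw [res_unit, rP_wp, hφ', wp_rP]
  obtain ⟨α, hα⟩ := WedgeLib.exists_hom_affine f hf
  let θ : pb g L ⟶ M := ((Scheme.Modules.pullbackPushforwardAdjunction g).homEquiv _ _).symm α
  have hθ : ∀ (U : Y.affineOpens) (V : X.Opens) (h : V ≤ g ⁻¹ᵁ U.1) (t : Γ(L, U.1)),
      θ.app V (puSecLE g L h t) = uS (pb g E) n V (wp g E n h (φ U t)) := by
    intro U V h t
    rw [KFlatLib.puSecLE_apply, QCohLib.app_map θ (homOfLE h)]
    have e := ((Scheme.Modules.pullbackPushforwardAdjunction g).homEquiv_unit _ _ θ).symm.trans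
      (Equiv.apply_symm_apply _ α)
    have e1 : θ.app (g ⁻¹ᵁ U.1) (puSec g t) = uS (pb g E) n (g ⁻¹ᵁ U.1) (wp g E n (le_refl _) (φ U t)) :=
      (congr($(congrArg (fun ψ => Scheme.Modules.Hom.app ψ U.1) e) t)).trans (hα U t)
    rw [e1, res_unit, rP_wp]
  let P : Type u := {p : X.affineOpens × Y.affineOpens // p.1.1 ≤ g ⁻¹ᵁ p.2.1}
  haveI : IsIso θ := by
    refine GrTildeLib.isIso_of_bijective_basis θ (fun p : P => p.1.1.1) (fun W x hx => ?_) fun p => ?_
    · obtain ⟨U, hU, hxU⟩ := QCohLib.exists_affine_nhd (g x)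
      obtain ⟨V, hV, hxV, hle⟩ := exists_isAffineOpen_mem_and_subset (X := X) (x := x)
        (U := W ⊓ g ⁻¹ᵁ U) ⟨hx, hxU⟩
      exact ⟨⟨(⟨V, hV⟩, ⟨U, hU⟩), hle.trans inf_le_right⟩, hxV, hle.trans inf_le_left⟩
    · obtain ⟨⟨V, U⟩, h⟩ := p
      show Function.Bijective (θ.app V.1)
      let ρ := (g.appLE U.1 V.1 h).hom
      letI : Algebra Γ(Y, U.1) Γ(X, V.1) := ρ.toAlgebra
      letI : Module Γ(Y, U.1) Γ(pb g L, V.1) := Module.compHom _ ρ
      haveI : IsScalarTower Γ(Y, U.1) Γ(X, V.1) Γ(pb g L, V.1) := IsScalarTower.of_algebraMap_smul fun _ _ => rfl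
      letI : Module Γ(Y, U.1) Γ(pb g E, V.1) := Module.compHom _ ρ
      haveI : IsScalarTower Γ(Y, U.1) Γ(X, V.1) Γ(pb g E, V.1) := IsScalarTower.of_algebraMap_smul fun _ _ => rfl
      let ψL : Γ(L, U.1) →ₗ[Γ(Y, U.1)] Γ(pb g L, V.1) :=
        { toFun := puSecLE g L h
          map_add' := map_add _
          map_smul' := fun r m => KFlatLib.puSecLE_smul g L h r m }
      let ψE : Γ(E, U.1) →ₗ[Γ(Y, U.1)] Γ(pb g E, V.1) :=
        { toFun := puSecLE g E h
          map_add' := map_add _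
          map_smul' := fun r m => KFlatLib.puSecLE_smul g E h r m }
      have hbL : IsBaseChange Γ(X, V.1) ψL :=
        KFlatLib.isBaseChange_puSec g L U.2 V.2 h (fun _ => rfl) ψL fun _ => rfl
      have hbE : IsBaseChange Γ(X, V.1) ψE :=
        KFlatLib.isBaseChange_puSec g E U.2 V.2 h (fun _ => rfl) ψE fun _ => rfl
      have hbW := isBaseChange_mapRestrict hbE n
      let eU : Γ(L, U.1) ≃ₗ[Γ(Y, U.1)] ↥(⋀[Γ(Y, U.1)]^n Γ(E, U.1)) := φ U
      let u : ↥(⋀[Γ(X, V.1)]^n Γ(pb g E, V.1)) ≃ₗ[Γ(X, V.1)] Γ(M, V.1) :=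
        LinearEquiv.ofBijective (uS (pb g E) n V.1) (unit_bijective (pb g E) n V.2)
      let T : Γ(pb g L, V.1) ≃ₗ[Γ(X, V.1)] Γ(M, V.1) :=
        hbL.equiv.symm ≪≫ₗ (eU.baseChange Γ(Y, U.1) Γ(X, V.1) _ _) ≪≫ₗ hbW.equiv ≪≫ₗ u
      have hcmp : ∀ z : ↥(⋀[Γ(Y, U.1)]^n Γ(E, U.1)), ExtBC.mapRestrict (B := Γ(X, V.1)) ψE n z = wp g E n h z := by
        intro z
        have hz : z ∈ Submodule.span Γ(Y, U.1) (Set.range (exteriorPower.ιMulti Γ(Y, U.1) n (M := Γ(E, U.1)))) := by
          rw [exteriorPower.ιMulti_span]; trivial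
        induction hz using Submodule.span_induction with
        | mem y hy =>
          obtain ⟨v, rfl⟩ := hy
          rw [ExtBC.mapRestrict_ιMulti]
          exact (wp_ι g E n h v).symm
        | zero => exact (map_zero _).trans (sMap_zero _ _ n).symm
        | add y y' _ _ hy hy' => rw [map_add, hy, hy']; exact (sMap_add _ _ n y y').symm
        | smul a y _ hy =>
          rw [map_smul, hy]
          exact (algebraMap_smul Γ(X, V.1) a (show ↥(⋀[Γ(X, V.1)]^n Γ(pb g E, V.1)) from wp g E n h y)).symm.trans (sMap_smul _ _ n a y).symm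
      have hT : ∀ m : Γ(pb g L, V.1), θ.app V.1 m = T m := by
        intro m
        induction m using hbL.inductionOn with
        | zero => exact (map_zero (θ.app V.1).hom).trans (map_zero T).symm
        | smul b m hm => exact (θ.app_smul b m).trans ((congrArg (b • ·) hm).trans (T.map_smul b m).symm)
        | add m m' hm hm' =>
          exact (map_add (θ.app V.1).hom m m').trans ((congr_arg₂ (· + ·) hm hm').trans (map_add T m m').symm)
        | tmul t =>
          show θ.app V.1 (puSecLE g L h t) = T (ψL t)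
          rw [hθ U V.1 h t]
          simp only [T, LinearEquiv.trans_apply, IsBaseChange.equiv_symm_apply]
          show _ = u (hbW.equiv (eU.baseChange Γ(Y, U.1) Γ(X, V.1) _ _ (1 ⊗ₜ[Γ(Y, U.1)] t)))
          rw [LinearEquiv.baseChange_tmul, IsBaseChange.equiv_tmul, one_smul, hcmp]
          rfl
      rw [show ⇑(θ.app V.1) = ⇑T from funext hT]
      exact T.bijective
  exact isExtPow_of_iso (asIso θ).symm (isExtPow_ext (pb g E) n)

end ExtPowLib

end
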